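import Cfsg.Agent.H902.Shape

/-! one shared copy of the on-demand lemmas `H902.Art.dd.eq_n` (helper250, order of helper986) -/

set_option autoImplicit false

namespace Cfsg.Agent.H250.EqD.DdN

theorem keep : True := by
  have := @Cfsg.Agent.H902.Art.dd.eq_9
  trivial

end Cfsg.Agent.H250.EqD.DdN
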